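import Cfsg.Agent.H847.Bs.Defs2
set_option linter.all false

/-!
# S5733: orthogonal complements for `Frm`

* `prp Φ D` : the orthogonal complement; `NdOn.dec` : `V = D ⟂ prp D` for `D` nondegenerate;
* `Dec.ndOn_left`, `Dec.ndOn_right`; `ndOn_sup` : `D ⟂ P`;
* `IsSp.on`, `IsHerm.on` : restrictions; existence of nondegenerate subspaces of all (even) dimensions.
-/

set_option autoImplicit false

namespace Cfsg.Agent.H826.Bs

open Cfsg.Agent.H847.Bs Module

variable {F V : Type*} [Field F] [AddCommGroup V] [Module F V] (Φ : Frm F V)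

theorem B_zero_left (x : V) : Φ.B 0 x = 0 := by
  have h := Φ.add_left 0 0 x
  rw [add_zero] at h
  exact left_eq_add.mp h

theorem B_zero_right (x : V) : Φ.B x 0 = 0 := by
  have h := Φ.add_right x 0 0
  rw [add_zero] at h
  exact left_eq_add.mp h

theorem B_neg_left (x y : V) : Φ.B (-x) y = -Φ.B x y := by
  have h := Φ.add_left x (-x) y
  rw [add_neg_cancel, B_zero_left] at h
  exact (neg_eq_of_add_eq_zero_right h.symm).symm

theorem B_sub_left (x y z : V) : Φ.B (x - y) z = Φ.B x z - Φ.B y z := by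
  rw [sub_eq_add_neg, Φ.add_left, B_neg_left, sub_eq_add_neg]

/-- the vectors on the right orthogonal to `x` -/
def rperp (x : V) : Submodule F V where
  carrier := {y | Φ.B x y = 0}
  add_mem' {a b} ha hb := by
    show Φ.B x (a + b) = 0
    rw [Φ.add_right, show Φ.B x a = 0 from ha, show Φ.B x b = 0 from hb, add_zero]
  zero_mem' := B_zero_right Φ x
  smul_mem' c y hy := by
    show Φ.B x (c • y) = 0
    rw [Φ.smul_right, show Φ.B x y = 0 from hy, mul_zero]

/-- the orthogonal complement -/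
def prp (D : Submodule F V) : Submodule F V where
  carrier := {y | ∀ x ∈ D, Φ.B y x = 0}
  add_mem' {a b} ha hb x hx := by rw [Φ.add_left, ha x hx, hb x hx, add_zero]
  zero_mem' _ _ := B_zero_left Φ _
  smul_mem' c y hy x hx := by rw [Φ.smul_left, hy x hx, mul_zero]

variable {Φ}

theorem mem_prp {D : Submodule F V} {y : V} : y ∈ prp Φ D ↔ ∀ x ∈ D, Φ.B y x = 0 := Iff.rfl

theorem mem_prp' {D : Submodule F V} {y : V} : y ∈ prp Φ D ↔ ∀ x ∈ D, Φ.B x y = 0 :=
  ⟨fun h x hx => Φ.refl _ _ (h x hx), fun h x hx => Φ.refl _ _ (h x hx)⟩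

theorem mem_prp_span {s : Set V} {y : V} : y ∈ prp Φ (Submodule.span F s) ↔ ∀ x ∈ s, Φ.B y x = 0 :=
  ⟨fun h x hx => h x (Submodule.subset_span hx), fun h x hx =>
    (Submodule.span_le (p := rperp Φ y)).mpr (fun z hz => h z hz) hx⟩

theorem orth_prp (D : Submodule F V) : Φ.Orth D (prp Φ D) := fun x hx _ hy => mem_prp'.mp hy x hx

/-- `V = D ⟂ prp D` for `D` nondegenerate. -/
theorem dec_prp [FiniteDimensional F V] {D : Submodule F V} (hD : Φ.NdOn D) : Φ.Dec D (prp Φ D) := by
  refine ⟨⟨?_, ?_⟩, orth_prp D⟩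
  · rw [Submodule.disjoint_def]
    intro x hx hx'
    exact hD x hx fun y hy => hx' y hy
  · rw [codisjoint_iff, eq_top_iff]
    intro v _
    let b := finBasis F D
    let T : V →ₗ[F] (Fin (finrank F D) → F) :=
      { toFun := fun v i => Φ.B v (b i)
        map_add' := fun x y => by
          funext i
          exact Φ.add_left x y _
        map_smul' := fun c x => by
          funext i
          exact Φ.smul_left c x _ }
    have hT : ∀ v : V, T v = 0 → ∀ x ∈ D, Φ.B v x = 0 := by
      intro v hv x hx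
      have h1 : ∀ y : D, y ∈ (⊤ : Submodule F D) → Φ.B v y = 0 := by
        intro y hy
        rw [← b.span_eq] at hy
        refine Submodule.span_le (p := (rperp Φ v).comap D.subtype) |>.mpr ?_ hy
        rintro _ ⟨i, rfl⟩
        exact congrFun hv i
      exact h1 ⟨x, hx⟩ Submodule.mem_top
    have hinj : Function.Injective (T ∘ₗ D.subtype) := by
      rw [← LinearMap.ker_eq_bot, LinearMap.ker_eq_bot']
      intro x hx
      exact Subtype.ext (hD x x.2 (hT x hx))
    have hsurj : Function.Surjective (T ∘ₗ D.subtype) :=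
      (LinearMap.injective_iff_surjective_of_finrank_eq_finrank (by rw [finrank_fin_fun])).mp hinj
    obtain ⟨d, hd⟩ := hsurj (T v)
    rw [Submodule.mem_sup]
    refine ⟨d, d.2, v - d, ?_, add_sub_cancel _ _⟩
    refine hT _ ?_
    rw [map_sub, sub_eq_zero]
    exact hd.symm

theorem Dec.symm {D U : Submodule F V} (h : Φ.Dec D U) : Φ.Dec U D :=
  ⟨h.compl.symm, fun x hx y hy => Φ.refl _ _ (h.orth y hy x hx)⟩

theorem Dec.ndOn_left {D U : Submodule F V} (h : Φ.Dec D U) (hΦ : Φ.Nd) : Φ.NdOn D := by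
  intro x hx hxD
  refine hΦ x fun v => ?_
  have hv : v ∈ D ⊔ U := by rw [h.compl.sup_eq_top]; exact Submodule.mem_top
  obtain ⟨d, hd, u, hu, rfl⟩ := Submodule.mem_sup.mp hv
  rw [Φ.add_right, hxD d hd, h.orth x hx u hu, add_zero]

theorem Dec.ndOn_right {D U : Submodule F V} (h : Φ.Dec D U) (hΦ : Φ.Nd) : Φ.NdOn U :=
  Dec.ndOn_left (Dec.symm h) hΦ

theorem nd_on_iff {D : Submodule F V} : (Φ.on D).Nd ↔ Φ.NdOn D := by
  constructor
  · intro h x hx hy
    exact congrArg Subtype.val (h ⟨x, hx⟩ fun y => hy y y.2)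
  · intro h x hx
    exact Subtype.ext (h x x.2 fun y hy => hx ⟨y, hy⟩)

theorem Dec.finrank_add [FiniteDimensional F V] {D U : Submodule F V} (h : Φ.Dec D U) :
    finrank F D + finrank F U = finrank F V := Submodule.finrank_add_eq_of_isCompl h.compl

theorem ndOn_bot : Φ.NdOn (⊥ : Submodule F V) := fun _ hx _ => (Submodule.mem_bot F).mp hx

theorem dec_top_bot : Φ.Dec (⊤ : Submodule F V) ⊥ :=
  ⟨isCompl_top_bot, fun x _ y hy => by rw [(Submodule.mem_bot F).mp hy]; exact B_zero_right Φ x⟩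

theorem dec_bot_top : Φ.Dec (⊥ : Submodule F V) ⊤ := Dec.symm dec_top_bot

theorem ndOn_sup {D P : Submodule F V} (hD : Φ.NdOn D) (hP : Φ.NdOn P) (h : P ≤ prp Φ D) : Φ.NdOn (D ⊔ P) := by
  intro x hx hxy
  obtain ⟨d, hd, p, hp, rfl⟩ := Submodule.mem_sup.mp hx
  have h1 : d = 0 := by
    refine hD d hd fun y hy => ?_
    have := hxy y (Submodule.mem_sup_left hy)
    rwa [Φ.add_left, (h hp) y hy, add_zero] at this
  have h2 : p = 0 := by
    refine hP p hp fun y hy => ?_
    have := hxy y (Submodule.mem_sup_right hy)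
    rwa [Φ.add_left, mem_prp'.mp (h hy) d hd, zero_add] at this
  rw [h1, h2, add_zero]

theorem finrank_sup_of_le_prp [FiniteDimensional F V] {D P : Submodule F V} (hD : Φ.NdOn D) (h : P ≤ prp Φ D) :
    finrank F ↥(D ⊔ P) = finrank F D + finrank F P := by
  have h1 := Submodule.finrank_sup_add_finrank_inf_eq D P
  have h2 : D ⊓ P = ⊥ := by
    rw [eq_bot_iff]
    intro x hx
    exact (Submodule.mem_bot F).mpr (hD x hx.1 fun y hy => (h hx.2) y hy)
  rw [h2, finrank_bot] at h1
  exact h1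

theorem finrank_prp [FiniteDimensional F V] {D : Submodule F V} (hD : Φ.NdOn D) :
    finrank F D + finrank F (prp Φ D) = finrank F V := Dec.finrank_add (dec_prp hD)

theorem prp_ne_bot [FiniteDimensional F V] {D : Submodule F V} (hD : Φ.NdOn D) (h : finrank F D < finrank F V) :
    ∃ x ∈ prp Φ D, x ≠ 0 := by
  by_contra hcon
  push Not at hcon
  have : prp Φ D = ⊥ := by
    rw [eq_bot_iff]
    intro x hx
    exact (Submodule.mem_bot F).mpr (hcon x hx)
  have h2 := finrank_prp hD
  rw [this, finrank_bot] at h2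
  omega

theorem mem_span_pair' {x y z : V} : z ∈ Submodule.span F ({x, y} : Set V) ↔ ∃ a b : F, z = a • x + b • y := by
  rw [Submodule.mem_span_pair]
  constructor
  · rintro ⟨a, b, h⟩; exact ⟨a, b, h.symm⟩
  · rintro ⟨a, b, h⟩; exact ⟨a, b, h.symm⟩

/-! ### Symplectic spaces -/

theorem isSp_on {D : Submodule F V} (hΦ : IsSp Φ) (hD : Φ.NdOn D) : IsSp (Φ.on D) :=
  ⟨nd_on_iff.mpr hD, hΦ.s, fun x => hΦ.q x, fun x => hΦ.alt x⟩

theorem exists_sp_sub [FiniteDimensional F V] (hΦ : IsSp Φ) (m : ℕ) (hm : 2 * m ≤ finrank F V) :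
    ∃ D : Submodule F V, Φ.NdOn D ∧ finrank F D = 2 * m := by
  induction m with
  | zero => exact ⟨⊥, ndOn_bot, by simp⟩
  | succ m ih =>
    obtain ⟨D, hD, hfD⟩ := ih (by omega)
    obtain ⟨x, hx, hx0⟩ := prp_ne_bot hD (by omega)
    have hnU : Φ.NdOn (prp Φ D) := Dec.ndOn_right (dec_prp hD) hΦ.nd
    obtain ⟨y, hy, hxy⟩ : ∃ y ∈ prp Φ D, Φ.B x y ≠ 0 := by
      by_contra hcon
      push Not at hcon
      exact hx0 (hnU x hx hcon)
    have hyx : Φ.B y x ≠ 0 := fun h => hxy (Φ.refl _ _ h)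
    let P : Submodule F V := Submodule.span F ({x, y} : Set V)
    have hPD : P ≤ prp Φ D := by
      rw [Submodule.span_le]
      rintro z (rfl | rfl)
      · exact hx
      · exact hy
    have hkey : ∀ a b : F, Φ.B (a • x + b • y) x = 0 → Φ.B (a • x + b • y) y = 0 → a = 0 ∧ b = 0 := by
      intro a b h1 h2
      rw [Φ.add_left, Φ.smul_left, Φ.smul_left, hΦ.alt, mul_zero, zero_add] at h1
      rw [Φ.add_left, Φ.smul_left, Φ.smul_left, hΦ.alt, mul_zero, add_zero] at h2
      exact ⟨(mul_eq_zero.mp h2).resolve_right hxy, (mul_eq_zero.mp h1).resolve_right hyx⟩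
    have hP : Φ.NdOn P := by
      intro z hz hzP
      obtain ⟨a, b, rfl⟩ := mem_span_pair'.mp hz
      obtain ⟨rfl, rfl⟩ := hkey a b (hzP x (Submodule.subset_span (by simp))) (hzP y (Submodule.subset_span (by simp)))
      simp
    have hli : LinearIndependent F ![x, y] := by
      rw [LinearIndependent.pair_iff]
      intro a b hab
      refine hkey a b ?_ ?_ <;> rw [hab, B_zero_left]
    have hfP : finrank F P = 2 := by
      have := finrank_span_eq_card hli
      rw [show Set.range ![x, y] = ({x, y} : Set V) from by simp [Set.pair_comm]] at this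
      simpa using this
    refine ⟨D ⊔ P, ndOn_sup hD hP hPD, ?_⟩
    rw [finrank_sup_of_le_prp hD hPD, hfD, hfP]
    ring

/-! ### Hermitian spaces -/

theorem isHerm_on {r : ℕ} {D : Submodule F V} (hΦ : IsHerm r Φ) (hD : Φ.NdOn D) : IsHerm r (Φ.on D) :=
  ⟨nd_on_iff.mpr hD, hΦ.card, hΦ.s, fun x => hΦ.q x, fun x y => hΦ.symm x y⟩

theorem herm_aniso [Finite F] {r : ℕ} (hΦ : IsHerm r Φ) {U : Submodule F V} (hU : Φ.NdOn U) {x : V} (hx : x ∈ U)
    (hx0 : x ≠ 0) : ∃ z ∈ U, Φ.B z z ≠ 0 := by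
  by_contra hcon
  push Not at hcon
  obtain ⟨y, hy, hxy⟩ : ∃ y ∈ U, Φ.B x y ≠ 0 := by
    by_contra h
    push Not at h
    exact hx0 (hU x hx h)
  have h1 : ∀ a : F, a * Φ.B x y + (a * Φ.B x y) ^ r = 0 := by
    intro a
    have h2 := hcon (a • x + y) (U.add_mem (U.smul_mem a hx) hy)
    have h3 := hcon (a • x) (U.smul_mem a hx)
    rw [Φ.add_left, Φ.add_right, Φ.add_right, h3, hcon y hy, hΦ.symm (a • x) y, zero_add, add_zero, Φ.smul_left] at h2
    exact h2
  have hr1 : 1 < r := by
    have hF : 1 < Nat.card F := Finite.one_lt_card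
    rw [hΦ.card] at hF
    by_contra hr
    have : r = 0 ∨ r = 1 := by omega
    rcases this with rfl | rfl <;> simp at hF
  have h4 : ∀ b : F, b + b ^ r = 0 := by
    intro b
    have := h1 (b / Φ.B x y)
    rwa [div_mul_cancel₀ _ hxy] at this
  -- too many roots of `X ^ r + X`
  classical
  have := Fintype.ofFinite F
  let p : Polynomial F := Polynomial.X ^ r + Polynomial.X
  have hdeg : p.natDegree = r := by
    have : (Polynomial.X : Polynomial F).degree < (Polynomial.X ^ r : Polynomial F).degree := by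
      rw [Polynomial.degree_X, Polynomial.degree_X_pow]
      exact_mod_cast hr1
    rw [Polynomial.natDegree_add_eq_left_of_degree_lt this, Polynomial.natDegree_X_pow]
  have hp0 : p ≠ 0 := by
    intro h
    rw [h, Polynomial.natDegree_zero] at hdeg
    omega
  have hcard : Fintype.card F ≤ r := by
    rw [← hdeg]
    refine Polynomial.card_le_degree_of_subset_roots (Z := Finset.univ) ?_
    intro b _
    rw [Polynomial.mem_roots hp0]
    simp only [p, Polynomial.IsRoot, Polynomial.eval_add, Polynomial.eval_pow, Polynomial.eval_X]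
    rw [add_comm]
    exact h4 b
  rw [← Nat.card_eq_fintype_card, hΦ.card] at hcard
  nlinarith

theorem exists_herm_sub [Finite F] [FiniteDimensional F V] {r : ℕ} (hΦ : IsHerm r Φ) (m : ℕ) (hm : m ≤ finrank F V) :
    ∃ D : Submodule F V, Φ.NdOn D ∧ finrank F D = m := by
  induction m with
  | zero => exact ⟨⊥, ndOn_bot, by simp⟩
  | succ m ih =>
    obtain ⟨D, hD, hfD⟩ := ih (by omega)
    obtain ⟨x, hx, hx0⟩ := prp_ne_bot hD (by omega)
    have hnU : Φ.NdOn (prp Φ D) := Dec.ndOn_right (dec_prp hD) hΦ.nd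
    obtain ⟨z, hz, hzz⟩ := herm_aniso hΦ hnU hx hx0
    let P : Submodule F V := Submodule.span F ({z} : Set V)
    have hPD : P ≤ prp Φ D := by
      rw [Submodule.span_le]
      rintro w rfl
      exact hz
    have hP : Φ.NdOn P := by
      intro w hw hwP
      obtain ⟨a, rfl⟩ := Submodule.mem_span_singleton.mp hw
      have := hwP z (Submodule.mem_span_singleton_self z)
      rw [Φ.smul_left] at this
      rw [(mul_eq_zero.mp this).resolve_right hzz, zero_smul]
    have hz0 : z ≠ 0 := by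
      rintro rfl
      exact hzz (B_zero_left Φ 0)
    refine ⟨D ⊔ P, ndOn_sup hD hP hPD, ?_⟩
    rw [finrank_sup_of_le_prp hD hPD, hfD, finrank_span_singleton hz0]

end Cfsg.Agent.H826.Bs
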